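import Groth.Prelude.Def_AnCl
import Mathlib.CategoryTheory.Limits.Preserves.Finite
import Mathlib.CategoryTheory.Limits.Constructions.FiniteProductsOfBinaryProducts
import Mathlib.CategoryTheory.Limits.Constructions.LimitsOfProductsAndEqualizers
import Mathlib.CategoryTheory.Limits.Shapes.Pullback.IsPullback.Basic
import Mathlib.CategoryTheory.Functor.Flat
import Mathlib.CategoryTheory.Sites.CoverPreserving

/-!
# Base change of classical sites along a continuous map

For `f : C(T, T')` the functor `clBC f : Cl T' ⥤ Cl T`, `E ↦ {q : T × E // f q.1 = p q.2}`.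

* `isLocalHomeomorph_fst`: base change of a local homeomorphism is a local homeomorphism;
* finite limits in `Cl T`; `clBC f` preserves finite limits, is representably flat,
  cover preserving and continuous.
-/

set_option autoImplicit false
universe u

open CategoryTheory CategoryTheory.Limits TopologicalSpace Topology Opposite An

noncomputable section

namespace Groth.Agent.An.H884.ClBC

section Top

variable {X Y Z : Type*} [TopologicalSpace X] [TopologicalSpace Y] [TopologicalSpace Z]

/-- Base change of a local homeomorphism is a local homeomorphism. -/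
theorem isLocalHomeomorph_fst {f : X → Z} {g : Y → Z} (hf : Continuous f)
    (hg : IsLocalHomeomorph g) :
    IsLocalHomeomorph (fun q : {q : X × Y // f q.1 = g q.2} => q.1.1) := by
  rw [isLocalHomeomorph_iff_isOpenEmbedding_restrict]
  intro q
  obtain ⟨e, he, rfl⟩ := hg q.1.2
  have hc2 : Continuous (fun q : {q : X × Y // f q.1 = e q.2} => q.1.2) :=
    continuous_snd.comp continuous_subtype_val
  have hc1 : Continuous (fun q : {q : X × Y // f q.1 = e q.2} => q.1.1) :=
    continuous_fst.comp continuous_subtype_val
  refine ⟨(fun q : {q : X × Y // f q.1 = e q.2} => q.1.2) ⁻¹' e.source,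
    (e.open_source.preimage hc2).mem_nhds he, ?_⟩
  refine IsOpenEmbedding.of_continuous_injective_isOpenMap (hc1.comp continuous_subtype_val) ?_ ?_
  · rintro ⟨⟨⟨x, y⟩, h⟩, hy⟩ ⟨⟨⟨x', y'⟩, h'⟩, hy'⟩ hxx
    have hx : x = x' := hxx
    subst hx
    have : y = y' := e.injOn hy hy' (by
      change e y = e y'
      change f x = e y at h
      change f x = e y' at h'
      rw [← h, ← h'])
    subst this
    rfl
  · intro W hW
    rw [isOpen_iff_forall_mem_open]
    rintro _ ⟨⟨⟨⟨x, y⟩, h⟩, hy⟩, hw, rfl⟩
    -- the local section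
    have hxy : f x = e y := h
    let s : (f ⁻¹' e.target : Set X) →
        ((fun q : {q : X × Y // f q.1 = e q.2} => q.1.2) ⁻¹' e.source : Set _) := fun x' =>
      ⟨⟨(x'.1, e.symm (f x'.1)), (e.right_inv x'.2).symm⟩, e.map_target x'.2⟩
    have hs : Continuous s := by
      refine Continuous.subtype_mk (Continuous.subtype_mk ?_ _) _
      refine continuous_subtype_val.prodMk ?_
      exact e.continuousOn_symm.comp_continuous (hf.comp continuous_subtype_val) (fun x' => x'.2)
    refine ⟨Subtype.val '' (s ⁻¹' W), ?_, ?_, ?_⟩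
    · rintro _ ⟨x', hx', rfl⟩
      exact ⟨s x', hx', rfl⟩
    · exact (e.open_target.preimage hf).isOpenMap_subtype_val _ (hW.preimage hs)
    · have hx : f x ∈ e.target := by
        rw [hxy]
        exact e.map_source hy
      refine ⟨⟨x, hx⟩, ?_, rfl⟩
      change s ⟨x, hx⟩ ∈ W
      have : s ⟨x, hx⟩ = ⟨⟨(x, y), h⟩, hy⟩ := by
        apply Subtype.ext
        apply Subtype.ext
        refine Prod.ext rfl ?_
        change e.symm (f x) = y
        rw [hxy]
        exact e.left_inv hy
      rw [this]
      exact hw

end Top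

section Functor

variable {T T' : Type u} [TopologicalSpace T] [TopologicalSpace T'] (f : C(T, T'))

/-- Base change of an object of the classical site of `T'` to `T`. -/
abbrev bcObj (A : Cl T') : Cl T where
  E := {q : T × A.E // f q.1 = A.p q.2}
  p := fun q => q.1.1
  lh := isLocalHomeomorph_fst f.continuous A.lh

/-- Base change of classical sites along a continuous map. -/
def clBC : Cl T' ⥤ Cl T where
  obj A := bcObj f A
  map h := ⟨fun q => ⟨(q.1.1, h.toFun q.1.2), q.2.trans (h.over q.1.2).symm⟩,
    Continuous.subtype_mk ((continuous_fst.comp continuous_subtype_val).prodMk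
      (h.continuous.comp (continuous_snd.comp continuous_subtype_val))) _, fun _ => rfl⟩
  map_id _ := rfl
  map_comp _ _ := rfl

lemma clBC_obj (A : Cl T') : (clBC f).obj A = bcObj f A := rfl

lemma clBC_map_toFun {A B : Cl T'} (h : A ⟶ B) (q : (bcObj f A).E) :
    ((clBC f).map h).toFun q = ⟨(q.1.1, h.toFun q.1.2), q.2.trans (h.over q.1.2).symm⟩ := rfl

end Functor

section Limits

variable {T : Type u} [TopologicalSpace T]

/-- `T` over itself is terminal in its classical site (any universe). -/
def selfTerminal : IsTerminal (Cl.self T) :=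
  IsTerminal.ofUniqueHom (fun A => ⟨A.p, A.lh.continuous, fun _ => rfl⟩)
    (fun _ f => Cl.hom_ext (funext fun a => f.over a))

/-- A map of spaces over `T` between objects of the classical site is a local homeomorphism. -/
theorem isLocalHomeomorph_toFun {A B : Cl T} (h : A ⟶ B) : IsLocalHomeomorph h.toFun := by
  have h1 : B.p ∘ h.toFun = A.p := funext h.over
  have h2 : IsLocalHomeomorph (B.p ∘ h.toFun) := by rw [h1]; exact A.lh
  exact h2.of_comp B.lh h.continuous

/-- The fibre product in the classical site. -/
abbrev fpObj {A B D : Cl T} (a : A ⟶ D) (b : B ⟶ D) : Cl T where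
  E := {q : A.E × B.E // a.toFun q.1 = b.toFun q.2}
  p := fun q => A.p q.1.1
  lh := A.lh.comp (isLocalHomeomorph_fst a.continuous (isLocalHomeomorph_toFun b))

/-- first projection -/
def fpFst {A B D : Cl T} (a : A ⟶ D) (b : B ⟶ D) : fpObj a b ⟶ A :=
  ⟨fun q => q.1.1, continuous_fst.comp continuous_subtype_val, fun _ => rfl⟩

/-- second projection -/
def fpSnd {A B D : Cl T} (a : A ⟶ D) (b : B ⟶ D) : fpObj a b ⟶ B :=
  ⟨fun q => q.1.2, continuous_snd.comp continuous_subtype_val, fun q => by
    rw [← b.over, ← q.2, a.over]⟩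

/-- the map to the fibre product -/
def fpLift {A B D : Cl T} (a : A ⟶ D) (b : B ⟶ D) {X : Cl T} (x : X ⟶ A) (y : X ⟶ B)
    (h : x ≫ a = y ≫ b) : X ⟶ fpObj a b :=
  ⟨fun t => ⟨(x.toFun t, y.toFun t), congrFun (congrArg Cl.Hom.toFun h) t⟩,
    Continuous.subtype_mk (x.continuous.prodMk y.continuous) _, fun t => x.over t⟩

theorem isPullback_fp {A B D : Cl T} (a : A ⟶ D) (b : B ⟶ D) :
    IsPullback (fpFst a b) (fpSnd a b) a b where
  w := Cl.hom_ext (funext fun q => q.2)
  isLimit' := ⟨PullbackCone.IsLimit.mk _ (fun s => fpLift a b s.fst s.snd s.condition)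
    (fun _ => rfl) (fun _ => rfl) (fun s m h1 h2 => by
      apply Cl.hom_ext
      funext t
      apply Subtype.ext
      exact Prod.ext (congrFun (congrArg Cl.Hom.toFun h1) t)
        (congrFun (congrArg Cl.Hom.toFun h2) t))⟩

instance hasPullbacks : HasPullbacks (Cl T) := by
  have : ∀ {A B D : Cl T} {a : A ⟶ D} {b : B ⟶ D}, HasLimit (cospan a b) :=
    fun {A B D a b} => (isPullback_fp a b).hasPullback
  exact hasPullbacks_of_hasLimit_cospan _

instance hasTerminal : HasTerminal (Cl T) := selfTerminal.hasTerminal

instance hasFiniteLimits : HasFiniteLimits (Cl T) := hasFiniteLimits_of_hasTerminal_and_pullbacks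

end Limits

section Preserve

variable {T T' : Type u} [TopologicalSpace T] [TopologicalSpace T'] (f : C(T, T'))

/-- `clBC f` preserves cartesian squares. -/
theorem isPullback_clBC_fp {A B D : Cl T'} (a : A ⟶ D) (b : B ⟶ D) :
    IsPullback ((clBC f).map (fpFst a b)) ((clBC f).map (fpSnd a b)) ((clBC f).map a)
      ((clBC f).map b) where
  w := by rw [← Functor.map_comp, ← Functor.map_comp, (isPullback_fp a b).w]
  isLimit' := by
    have hc : ∀ (s : PullbackCone ((clBC f).map a) ((clBC f).map b)) (t : s.pt.E),
        ((clBC f).map a).toFun (s.fst.toFun t) = ((clBC f).map b).toFun (s.snd.toFun t) :=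
      fun s t => congrFun (congrArg Cl.Hom.toFun s.condition) t
    have hc1 : ∀ (s : PullbackCone ((clBC f).map a) ((clBC f).map b)) (t : s.pt.E),
        (s.fst.toFun t).1.1 = (s.snd.toFun t).1.1 := fun s t =>
      congrArg (fun q => q.1.1) (hc s t)
    have hc2 : ∀ (s : PullbackCone ((clBC f).map a) ((clBC f).map b)) (t : s.pt.E),
        a.toFun (s.fst.toFun t).1.2 = b.toFun (s.snd.toFun t).1.2 := fun s t =>
      congrArg (fun q => q.1.2) (hc s t)
    refine ⟨PullbackCone.IsLimit.mk _ (fun s => ⟨fun t => ⟨((s.fst.toFun t).1.1,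
      ⟨((s.fst.toFun t).1.2, (s.snd.toFun t).1.2), hc2 s t⟩), (s.fst.toFun t).2⟩, ?_,
      fun t => s.fst.over t⟩) ?_ ?_ ?_⟩
    · refine Continuous.subtype_mk (Continuous.prodMk ?_ (Continuous.subtype_mk
        (Continuous.prodMk ?_ ?_) _)) _
      · exact continuous_fst.comp (continuous_subtype_val.comp s.fst.continuous)
      · exact continuous_snd.comp (continuous_subtype_val.comp s.fst.continuous)
      · exact continuous_snd.comp (continuous_subtype_val.comp s.snd.continuous)
    · intro s
      apply Cl.hom_ext
      funext t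
      rfl
    · intro s
      apply Cl.hom_ext
      funext t
      exact Subtype.ext (Prod.ext (hc1 s t) rfl)
    · intro s m h1 h2
      apply Cl.hom_ext
      funext t
      have e1 : ((clBC f).map (fpFst a b)).toFun (m.toFun t) = s.fst.toFun t :=
        congrFun (congrArg Cl.Hom.toFun h1) t
      have e2 : ((clBC f).map (fpSnd a b)).toFun (m.toFun t) = s.snd.toFun t :=
        congrFun (congrArg Cl.Hom.toFun h2) t
      refine Subtype.ext (Prod.ext (congrArg (fun q => q.1.1) e1) (Subtype.ext (Prod.ext
        (congrArg (fun q => q.1.2) e1) (congrArg (fun q => q.1.2) e2))))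

/-- `clBC f` preserves the terminal object. -/
def clBCSelfTerminal : IsTerminal ((clBC f).obj (Cl.self T')) :=
  IsTerminal.ofUniqueHom (fun A => ⟨fun a => ⟨(A.p a, f (A.p a)), rfl⟩,
      Continuous.subtype_mk (A.lh.continuous.prodMk (f.continuous.comp A.lh.continuous)) _,
      fun _ => rfl⟩)
    (fun A g => Cl.hom_ext (funext fun a => by
      have h1 : (g.toFun a).1.1 = A.p a := g.over a
      have h2 : f (g.toFun a).1.1 = (g.toFun a).1.2 := (g.toFun a).2
      refine Subtype.ext (Prod.ext h1 ?_)
      change (g.toFun a).1.2 = f (A.p a)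
      rw [← h2, h1]))

instance preservesPullbacks_clBC : PreservesLimitsOfShape WalkingCospan (clBC f) :=
  preservesLimitsOfShape_walkingCospan_of_forall_isPullback fun _ _ _ a b _ =>
    ⟨_, _, _, isPullback_fp a b, isPullback_clBC_fp f a b⟩

instance preservesTerminal_clBC : PreservesLimit (Functor.empty.{0} (Cl T')) (clBC f) :=
  preservesLimit_of_preserves_limit_cone selfTerminal
    ((isLimitMapConeEmptyConeEquiv _ _).symm (clBCSelfTerminal f))

instance preservesFiniteLimits_clBC : PreservesFiniteLimits (clBC f) := by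
  have : PreservesLimitsOfShape (Discrete PEmpty.{1}) (clBC f) :=
    preservesLimitsOfShape_pempty_of_preservesTerminal _
  exact preservesFiniteLimits_of_preservesTerminal_and_pullbacks _

instance representablyFlat_clBC : RepresentablyFlat (clBC f) := flat_of_preservesFiniteLimits _

theorem isOpenEmbedding_clBC_map {A B : Cl T'} (g : A ⟶ B) (hg : IsOpenEmbedding g.toFun) :
    IsOpenEmbedding ((clBC f).map g).toFun := by
  refine IsOpenEmbedding.of_continuous_injective_isOpenMap ((clBC f).map g).continuous ?_
    (isLocalHomeomorph_toFun _).isOpenMap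
  intro q q' h
  have h1 := congrArg (fun q => q.1.1) h
  have h2 := congrArg (fun q => q.1.2) h
  exact Subtype.ext (Prod.ext h1 (hg.injective h2))

theorem coverPreserving_clBC : CoverPreserving (Cl.topology T') (Cl.topology T) (clBC f) where
  cover_preserve {A S} hS := by
    intro q
    obtain ⟨B, g, hSg, hg, b, hb⟩ := hS q.1.2
    refine ⟨(clBC f).obj B, (clBC f).map g, Sieve.image_mem_functorPushforward _ _ hSg,
      isOpenEmbedding_clBC_map f g hg, ⟨(q.1.1, b), ?_⟩, ?_⟩
    · rw [q.2, ← hb]
      exact g.over b
    · exact Subtype.ext (Prod.ext rfl hb)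

instance isContinuous_clBC : (clBC f).IsContinuous (Cl.topology T') (Cl.topology T) :=
  Functor.isContinuous_of_coverPreserving (compatiblePreservingOfFlat _ _) (coverPreserving_clBC f)

end Preserve

end Groth.Agent.An.H884.ClBC
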