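import Groth.Agent.An.H884.ClBC
import Groth.Agent.Etbase.LanFlat
import Groth.Agent.S4212
import Groth.Prelude.Def_AnEps

/-!
# Direct and inverse images of sheaves on classical sites

For `f : C(T, T')`:
* `clPush f : Cl.Ab T ⥤ Cl.Ab T'`, `clPull f`, `clAdj f : clPull f ⊣ clPush f`;
* `clPull f` is exact and additive;
* `clPushComp`: `clPush f ⋙ clPush g ≅ clPush (g.comp f)`;
* `opensPush f : AbTop T ⥤ AbTop T'` (the direct image of sheaves on spaces, any universe; for
  `T : Type` it is `An.pushTop f`) and `resPushIso : clPush f ⋙ resOpens T' ≅ resOpens T ⋙ opensPush f`.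
-/

set_option autoImplicit false
universe u

open CategoryTheory CategoryTheory.Limits TopologicalSpace Topology Opposite An

noncomputable section

namespace Groth.Agent.An.H884.ClPush

open ClBC

section

variable {T T' : Type u} [TopologicalSpace T] [TopologicalSpace T'] (f : C(T, T'))

/-- Direct image of sheaves on the classical sites along a continuous map. -/
abbrev clPush : Cl.Ab T ⥤ Cl.Ab T' :=
  (clBC f).sheafPushforwardContinuous AddCommGrpCat.{u + 1} (Cl.topology T') (Cl.topology T)

/-- Inverse image of sheaves on the classical sites along a continuous map. -/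
abbrev clPull : Cl.Ab T' ⥤ Cl.Ab T :=
  (clBC f).sheafPullback AddCommGrpCat.{u + 1} (Cl.topology T') (Cl.topology T)

/-- The adjunction `clPull f ⊣ clPush f`. -/
abbrev clAdj : clPull f ⊣ clPush f :=
  (clBC f).sheafAdjunctionContinuous AddCommGrpCat.{u + 1} (Cl.topology T') (Cl.topology T)

instance clPush_additive : (clPush f).Additive where

instance clPull_additive : (clPull f).Additive := (clAdj f).left_adjoint_additive

instance clPull_preservesFiniteColimits : PreservesFiniteColimits (clPull f) :=
  have : PreservesColimitsOfSize.{0, 0} (clPull f) := (clAdj f).leftAdjoint_preservesColimits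
  PreservesColimitsOfSize.preservesFiniteColimits _

instance clPush_preservesFiniteLimits : PreservesFiniteLimits (clPush f) :=
  have : PreservesLimitsOfSize.{0, 0} (clPush f) := (clAdj f).rightAdjoint_preservesLimits
  PreservesLimitsOfSize.preservesFiniteLimits _

set_option backward.isDefEq.respectTransparency.types false in
/-- The inverse image is exact. -/
instance clPull_preservesFiniteLimits : PreservesFiniteLimits (clPull f) := by
  have hfl : ∀ K : (Cl T)ᵒᵖ, IsFiltered (CostructuredArrow (clBC f).op K) := fun K =>
    IsFiltered.of_equivalence (structuredArrowOpEquivalence (clBC f) (unop K))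
  have : ∀ K : (Cl T)ᵒᵖ, HasColimitsOfShape (CostructuredArrow (clBC f).op K)
      AddCommGrpCat.{u + 1} := fun K => inferInstance
  have : PreservesFiniteLimits ((clBC f).op.lan :
      (_ ⥤ AddCommGrpCat.{u + 1}) ⥤ (Cl T)ᵒᵖ ⥤ AddCommGrpCat.{u + 1}) :=
    Groth.Agent.Etbase.LanFlat.preservesFiniteLimits_op_lan _ _ (fun K => by
      have := hfl K
      have : HasFilteredColimitsOfSize.{u, u + 1} AddCommGrpCat.{u + 1} :=
        hasFilteredColimitsOfSize_shrink.{u, u + 1, u + 1, u + 1}
      have : AB5OfSize.{u, u + 1} AddCommGrpCat.{u + 1} :=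
        AB5OfSize_shrink.{u, u + 1, u + 1, u + 1} _
      exact HasExactColimitsOfShape.preservesFiniteLimits)
  exact Functor.sheafPullbackConstruction.preservesFiniteLimits _ _ _ _

end

section Comp

variable {T T' T'' : Type u} [TopologicalSpace T] [TopologicalSpace T'] [TopologicalSpace T'']
  (f : C(T, T')) (g : C(T', T''))

lemma clBCComp_mem (A : Cl T'') (q : (bcObj f (bcObj g A)).E) :
    (g.comp f) q.1.1 = A.p q.1.2.1.2 := by
  have h1 : f q.1.1 = q.1.2.1.1 := q.2
  have h2 : g q.1.2.1.1 = A.p q.1.2.1.2 := q.1.2.2
  change g (f q.1.1) = _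
  rw [h1, h2]

/-- Base changes compose: the map. -/
def clBCCompHom (A : Cl T'') : bcObj f (bcObj g A) ⟶ bcObj (g.comp f) A :=
  ⟨fun q => ⟨(q.1.1, q.1.2.1.2), clBCComp_mem f g A q⟩,
    Continuous.subtype_mk ((continuous_fst.comp continuous_subtype_val).prodMk
      (continuous_snd.comp (continuous_subtype_val.comp
        (continuous_snd.comp continuous_subtype_val)))) _, fun _ => rfl⟩

/-- Base changes compose: the inverse map. -/
def clBCCompInv (A : Cl T'') : bcObj (g.comp f) A ⟶ bcObj f (bcObj g A) :=
  ⟨fun q => ⟨(q.1.1, ⟨(f q.1.1, q.1.2), q.2⟩), rfl⟩,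
    Continuous.subtype_mk ((continuous_fst.comp continuous_subtype_val).prodMk
      (Continuous.subtype_mk ((f.continuous.comp (continuous_fst.comp
        continuous_subtype_val)).prodMk (continuous_snd.comp continuous_subtype_val)) _)) _,
      fun _ => rfl⟩

/-- Base changes compose. -/
def clBCComp : clBC g ⋙ clBC f ≅ clBC (g.comp f) :=
  NatIso.ofComponents (fun A =>
    { hom := clBCCompHom f g A
      inv := clBCCompInv f g A
      hom_inv_id := Cl.hom_ext (funext fun q => Subtype.ext (Prod.ext rfl
        (Subtype.ext (Prod.ext q.2 rfl))))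
      inv_hom_id := rfl }) (fun _ => rfl)

/-- Direct images compose. -/
def clPushComp : clPush f ⋙ clPush g ≅ clPush (g.comp f) :=
  Functor.sheafPushforwardContinuousComp' (F := clBC g) (G := clBC f) (FG := clBC (g.comp f))
    (clBCComp f g) AddCommGrpCat.{u + 1} (Cl.topology T'') (Cl.topology T') (Cl.topology T)

/-- Inverse images compose. -/
def clPullComp : clPull (g.comp f) ≅ clPull g ⋙ clPull f :=
  Adjunction.leftAdjointUniq (clAdj (g.comp f))
    (((clAdj g).comp (clAdj f)).ofNatIsoRight (clPushComp f g))

end Comp

section Res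

variable {T T' : Type u} [TopologicalSpace T] [TopologicalSpace T'] (f : C(T, T'))

/-- Preimages of opens, as a functor. -/
abbrev opensMap : Opens T' ⥤ Opens T := Opens.map (TopCat.ofHom f)

instance isContinuous_opensMap :
    (opensMap f).IsContinuous (Opens.grothendieckTopology T') (Opens.grothendieckTopology T) :=
  Functor.isContinuous_of_coverPreserving (compatiblePreserving_opens_map (TopCat.ofHom f))
    (coverPreserving_opens_map (TopCat.ofHom f))

/-- Direct image of sheaves on the spaces. -/
abbrev opensPush : AbTop T ⥤ AbTop T' :=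
  (opensMap f).sheafPushforwardContinuous AddCommGrpCat.{u + 1}
    (Opens.grothendieckTopology T') (Opens.grothendieckTopology T)

instance opensPush_additive : (opensPush f).Additive where

lemma opensBC_mem (U : Opens T') (q : (bcObj f ((opensToCl T').obj U)).E) :
    q.1.1 ∈ (opensMap f).obj U := by
  have h : f q.1.1 = q.1.2.1 := q.2
  change f q.1.1 ∈ U
  rw [h]
  exact q.1.2.2

/-- The preimage of an open, as a base change: the map. -/
def opensBCHom (U : Opens T') :
    bcObj f ((opensToCl T').obj U) ⟶ (opensToCl T).obj ((opensMap f).obj U) :=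
  ⟨fun q => ⟨q.1.1, opensBC_mem f U q⟩,
    Continuous.subtype_mk (continuous_fst.comp continuous_subtype_val) _, fun _ => rfl⟩

/-- The preimage of an open, as a base change: the inverse map. -/
def opensBCInv (U : Opens T') :
    (opensToCl T).obj ((opensMap f).obj U) ⟶ bcObj f ((opensToCl T').obj U) :=
  ⟨fun t => ⟨(t.1, ⟨f t.1, t.2⟩), rfl⟩,
    Continuous.subtype_mk (continuous_subtype_val.prodMk
      (Continuous.subtype_mk (f.continuous.comp continuous_subtype_val) _)) _, fun _ => rfl⟩

/-- The preimage of an open, as a base change. -/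
def opensBCIso : opensToCl T' ⋙ clBC f ≅ opensMap f ⋙ opensToCl T :=
  NatIso.ofComponents (fun U =>
    { hom := opensBCHom f U
      inv := opensBCInv f U
      hom_inv_id := Cl.hom_ext (funext fun q => Subtype.ext (Prod.ext rfl (Subtype.ext q.2)))
      inv_hom_id := rfl }) (fun _ => rfl)

variable [OpCont T] [OpCont T']

instance isContinuous_opensMap_comp :
    (opensMap f ⋙ opensToCl T).IsContinuous (Opens.grothendieckTopology T') (Cl.topology T) :=
  Functor.isContinuous_comp _ _ _ (Opens.grothendieckTopology T) _

/-- Direct image commutes with restriction to opens. -/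
def resPushIso : clPush f ⋙ resOpens T' ≅ resOpens T ⋙ opensPush f :=
  Functor.sheafPushforwardContinuousComp' (F := opensToCl T') (G := clBC f)
      (FG := opensMap f ⋙ opensToCl T)
      (opensBCIso f) AddCommGrpCat.{u + 1} (Opens.grothendieckTopology T') (Cl.topology T')
      (Cl.topology T) ≪≫
    (Functor.sheafPushforwardContinuousComp' (F := opensMap f) (G := opensToCl T)
      (FG := opensMap f ⋙ opensToCl T) (Iso.refl _) AddCommGrpCat.{u + 1}
      (Opens.grothendieckTopology T') (Opens.grothendieckTopology T) (Cl.topology T)).symm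

end Res

section Res0

variable {T T' : Type} [TopologicalSpace T] [TopologicalSpace T'] (f : C(T, T'))
  [OpCont T] [OpCont T']

/-- Direct image commutes with restriction to opens, for the prelude's `An.pushTop`. -/
def resPushTopIso : clPush f ⋙ resOpens T' ≅ resOpens T ⋙ pushTop f := resPushIso f

end Res0

end Groth.Agent.An.H884.ClPush
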