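import Mathlib.CategoryTheory.Abelian.RightDerived
import Mathlib.Algebra.Homology.ShortComplex.PreservesHomology
import Mathlib.Algebra.Homology.HomologicalComplexAbelian

/-!
# `R^n (E ⋙ H) ≅ E ⋙ R^n H`, naturally, for `E` exact and preserving injective objects
-/

set_option autoImplicit false

open CategoryTheory CategoryTheory.Limits

noncomputable section

namespace Groth.Agent.An.H884.ExactComp

universe v₁ v₂ v₃ u₁ u₂ u₃

variable {A : Type u₁} {B : Type u₂} {C : Type u₃} [Category.{v₁} A] [Category.{v₂} B]
  [Category.{v₃} C] [Abelian A] [Abelian B] [Abelian C]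

section

variable (E : A ⥤ B) [E.Additive] [PreservesFiniteLimits E] [PreservesFiniteColimits E]
  (hE : ∀ I : A, Injective I → Injective (E.obj I))

/-- The image of an injective resolution under an exact functor preserving injectives. -/
def mapResolution {M : A} (I : InjectiveResolution M) : InjectiveResolution (E.obj M) where
  cocomplex := (E.mapHomologicalComplex _).obj I.cocomplex
  injective n := hE _ (I.injective n)
  hasHomology i := inferInstance
  ι := (HomologicalComplex.singleMapHomologicalComplex E (ComplexShape.up ℕ) 0).inv.app M ≫
    (E.mapHomologicalComplex _).map I.ι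
  quasiIso := by
    have : QuasiIso ((E.mapHomologicalComplex _).map I.ι) := inferInstance
    infer_instance

theorem mapResolution_comm {M N : A} (g : M ⟶ N) (I : InjectiveResolution M)
    (J : InjectiveResolution N) (φ : I.cocomplex ⟶ J.cocomplex)
    (comm : I.ι ≫ φ = (CochainComplex.single₀ A).map g ≫ J.ι) :
    (mapResolution E hE I).ι ≫ (E.mapHomologicalComplex _).map φ =
      (CochainComplex.single₀ B).map (E.map g) ≫ (mapResolution E hE J).ι := by
  have h1 := (HomologicalComplex.singleMapHomologicalComplex E (ComplexShape.up ℕ) 0).inv.naturality g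
  have h2 := congrArg (fun t => (E.mapHomologicalComplex (ComplexShape.up ℕ)).map t) comm
  simp only [Functor.map_comp] at h2
  dsimp only [mapResolution]
  rw [Category.assoc]
  refine (congrArg (fun t => _ ≫ t) h2).trans ?_
  rw [← Category.assoc, ← Category.assoc]
  refine congrArg (fun t => t ≫ _) ?_
  exact h1.symm

variable [HasInjectiveResolutions A] [HasInjectiveResolutions B] (H : B ⥤ C) [H.Additive] (n : ℕ)

/-- `R^n (E ⋙ H) M ≅ R^n H (E M)`. -/
def objIso (M : A) : ((E ⋙ H).rightDerived n).obj M ≅ (H.rightDerived n).obj (E.obj M) :=
  ((injectiveResolution M).isoRightDerivedObj (E ⋙ H) n) ≪≫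
    ((mapResolution E hE (injectiveResolution M)).isoRightDerivedObj H n).symm

theorem objIso_naturality {M N : A} (g : M ⟶ N) :
    ((E ⋙ H).rightDerived n).map g ≫ (objIso E hE H n N).hom =
      (objIso E hE H n M).hom ≫ (H.rightDerived n).map (E.map g) := by
  let φ := InjectiveResolution.desc g (injectiveResolution N) (injectiveResolution M)
  have hφ := InjectiveResolution.desc_commutes g (injectiveResolution N) (injectiveResolution M)
  have hφ0 := InjectiveResolution.desc_commutes_zero g (injectiveResolution N)
    (injectiveResolution M)
  have h1 := InjectiveResolution.isoRightDerivedObj_hom_naturality g (injectiveResolution M)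
    (injectiveResolution N) φ hφ0 (E ⋙ H) n
  have h2 := mapResolution_comm E hE g (injectiveResolution M) (injectiveResolution N) φ hφ
  have h20 : (mapResolution E hE (injectiveResolution M)).ι.f 0 ≫
      ((E.mapHomologicalComplex _).map φ).f 0 =
      E.map g ≫ (mapResolution E hE (injectiveResolution N)).ι.f 0 :=
    (HomologicalComplex.congr_hom h2 0).trans (by simp)
  have h3 := InjectiveResolution.isoRightDerivedObj_inv_naturality (E.map g)
    (mapResolution E hE (injectiveResolution M)) (mapResolution E hE (injectiveResolution N))
    ((E.mapHomologicalComplex _).map φ) h20 H n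
  dsimp only [objIso, Iso.trans_hom, Iso.symm_hom]
  rw [reassoc_of% h1, Category.assoc]
  exact congrArg (fun t => _ ≫ t) h3.symm

/-- `R^n (E ⋙ H) ≅ E ⋙ R^n H` for `E` exact and preserving injective objects. -/
def rightDerivedExactCompIso : (E ⋙ H).rightDerived n ≅ E ⋙ H.rightDerived n :=
  NatIso.ofComponents (fun M => objIso E hE H n M) (fun g => objIso_naturality E hE H n g)

end

section

variable (E : A ⥤ B) [E.IsEquivalence]

omit [Abelian A] [Abelian B] in
/-- An equivalence preserves injective objects. -/
theorem injective_obj (I : A) (hI : Injective I) : Injective (E.obj I) :=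
  (E.asEquivalence.map_injective_iff I).2 hI

end

end Groth.Agent.An.H884.ExactComp
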