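import Groth.Prelude.Def_AnCl

/-!
# Shortcut instances that make the kernel check of `Ext` terms in sheaf categories fast

Instance search finds `HasWeakSheafify` and `HasExt` for the sheaf categories of the prelude through
very large proof terms, which the kernel rechecks in every declaration that mentions `Ext` or
`constantSheaf` (4 to 60 seconds each). The shortcuts below replace them by constants; all of them
are propositions, so they never cause a mismatch.
-/

set_option autoImplicit false
universe u

open CategoryTheory CategoryTheory.Limits TopologicalSpace An AlgebraicGeometry

namespace Groth.Agent.An.H884.Fast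

section Cl

variable (T : Type u) [TopologicalSpace T]

instance hasWeakSheafify_cl : HasWeakSheafify (Cl.topology T) AddCommGrpCat.{u + 1} := inferInstance

instance hasExt_cl : HasExt.{u + 1} (Cl.Ab T) := inferInstance

instance hasWeakSheafify_top :
    HasWeakSheafify (Opens.grothendieckTopology T) AddCommGrpCat.{u + 1} := inferInstance

instance hasExt_top : HasExt.{u + 1} (AbTop T) := inferInstance

end Cl

section Et

variable (X : Scheme.{u})

instance hasSheafify_et : HasSheafify X.smallEtaleTopology AddCommGrpCat.{u + 1} := inferInstance

instance hasWeakSheafify_et : HasWeakSheafify X.smallEtaleTopology AddCommGrpCat.{u + 1} :=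
  inferInstance

instance hasExt_et : HasExt.{u + 1} (EtCoh.Ab X) := inferInstance

end Et

end Groth.Agent.An.H884.Fast
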