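import Groth.Agent.An.H884.ClPush
import Groth.Agent.An.H884.Fast
import Groth.Agent.An.H884.ExactComp
import Groth.Agent.CohtopA.RDComp
import Groth.Agent.CohtopA.ExtAdj

/-!
# Cohomology on the classical site is cohomology on the space

* `resOpens T` is an exact additive equivalence (instances), it preserves injective objects;
* `RclPushIso f q : (clPush f).rightDerived q ⋙ resOpens T' ≅ resOpens T ⋙ RpushTop f q`;
* `constIso T : constantSheaf (Opens) ≅ constantSheaf (Cl) ⋙ resOpens T`;
* `clH T G q : Cl.H G q →+ HTop ((resOpens T).obj G) q`, bijective, natural (`clH_comp`: compatible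
  with all Ext classes, in particular with morphisms and connecting homomorphisms);
* the same for `Ext` out of any constant sheaf (`clExt`).
-/

set_option autoImplicit false
universe u

open CategoryTheory CategoryTheory.Limits TopologicalSpace Topology Opposite An
open CategoryTheory.Abelian

noncomputable section

namespace Groth.Agent.An.H884.ClH

open ClBC ClPush

section Inst

variable (T : Type u) [TopologicalSpace T] [OpCont T]

instance resOpens_isEquivalence : (resOpens T).IsEquivalence := Groth.Agent.S4212.result T

instance resOpens_additive : (resOpens T).Additive where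

instance resOpens_preservesFiniteLimits : PreservesFiniteLimits (resOpens T) := inferInstance

instance resOpens_preservesFiniteColimits : PreservesFiniteColimits (resOpens T) := inferInstance

theorem resOpens_injective (I : Cl.Ab T) (hI : Injective I) : Injective ((resOpens T).obj I) :=
  ExactComp.injective_obj (resOpens T) I hI

end Inst

section Der

variable {T T' : Type} [TopologicalSpace T] [TopologicalSpace T'] (f : C(T, T'))
  [OpCont T] [OpCont T']

/-- Higher direct images on classical sites and on spaces agree. -/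
def RclPushIso (q : ℕ) :
    (clPush f).rightDerived q ⋙ resOpens T' ≅ resOpens T ⋙ RpushTop f q :=
  (CohtopA.RDComp.rightDerivedCompIso (clPush f) (resOpens T') q).symm ≪≫
    CohtopA.RDComp.rightDerivedCongr (resPushTopIso f) q ≪≫
      ExactComp.rightDerivedExactCompIso (resOpens T) (resOpens_injective T) (pushTop f) q

theorem isZero_RclPush_iff (G : Cl.Ab T) (q : ℕ) :
    IsZero (((clPush f).rightDerived q).obj G) ↔
      IsZero ((RpushTop f q).obj ((resOpens T).obj G)) := by
  constructor
  · intro h
    exact ((resOpens T').map_isZero h).of_iso ((RclPushIso f q).app G).symm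
  · intro h
    have h1 : IsZero ((resOpens T').obj (((clPush f).rightDerived q).obj G)) :=
      h.of_iso ((RclPushIso f q).app G)
    rw [IsZero.iff_id_eq_zero] at h1 ⊢
    apply (resOpens T').map_injective
    rw [CategoryTheory.Functor.map_id, h1, Functor.map_zero]

end Der

section Const

variable (T : Type u) [TopologicalSpace T] [OpCont T]

/-- The whole space is terminal among opens. -/
def topTerminal : IsTerminal (⊤ : Opens T) := isTerminalTop

/-- `(opensToCl T).obj ⊤ ≅ Cl.self T`. -/
def topIso : (opensToCl T).obj ⊤ ≅ Cl.self T where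
  hom := ⟨Subtype.val, continuous_subtype_val, fun _ => rfl⟩
  inv := ⟨fun t => ⟨t, trivial⟩, Continuous.subtype_mk continuous_id _, fun _ => rfl⟩
  hom_inv_id := rfl
  inv_hom_id := rfl

/-- Global sections on the classical site, any universe. -/
abbrev clGsec : Cl.Ab T ⥤ AddCommGrpCat.{u + 1} :=
  (sheafSections (Cl.topology T) AddCommGrpCat.{u + 1}).obj (op (Cl.self T))

/-- Global sections on the space. -/
abbrev topGsec : AbTop T ⥤ AddCommGrpCat.{u + 1} :=
  (sheafSections (Opens.grothendieckTopology T) AddCommGrpCat.{u + 1}).obj (op ⊤)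

/-- `resOpens` followed by global sections is global sections. -/
def resGsecIso : resOpens T ⋙ topGsec T ≅ clGsec T :=
  NatIso.ofComponents (fun G => G.obj.mapIso (topIso T).op.symm) (fun {G G'} φ => by
    simp only [Functor.comp_map, Functor.mapIso_hom, Iso.symm_hom]
    exact (φ.hom.naturality _).symm)

/-- constant sheaf ⊣ global sections, classical site -/
abbrev clConstAdj : constantSheaf (Cl.topology T) AddCommGrpCat.{u + 1} ⊣ clGsec T :=
  constantSheafAdj (Cl.topology T) AddCommGrpCat.{u + 1} selfTerminal

/-- constant sheaf ⊣ global sections, on the space -/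
abbrev topConstAdj :
    constantSheaf (Opens.grothendieckTopology T) AddCommGrpCat.{u + 1} ⊣ topGsec T :=
  constantSheafAdj (Opens.grothendieckTopology T) AddCommGrpCat.{u + 1} (topTerminal T)

/-- The extension of a constant sheaf is constant. -/
def extConstIso :
    constantSheaf (Opens.grothendieckTopology T) AddCommGrpCat.{u + 1} ⋙ extOpens T ≅
      constantSheaf (Cl.topology T) AddCommGrpCat.{u + 1} :=
  Adjunction.leftAdjointUniq (((topConstAdj T).comp (extResAdj T)).ofNatIsoRight (resGsecIso T))
    (clConstAdj T)

instance extResAdj_unit_isIso : IsIso (extResAdj T).unit := inferInstance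

/-- The restriction of a constant sheaf is constant. -/
def constIso : constantSheaf (Opens.grothendieckTopology T) AddCommGrpCat.{u + 1} ≅
    constantSheaf (Cl.topology T) AddCommGrpCat.{u + 1} ⋙ resOpens T :=
  (Functor.rightUnitor _).symm ≪≫
    Functor.isoWhiskerLeft _ (asIso (extResAdj T).unit) ≪≫
      (Functor.associator _ _ _).symm ≪≫
        Functor.isoWhiskerRight (extConstIso T) (resOpens T)

end Const

section Ext

variable (T : Type u) [TopologicalSpace T] [OpCont T]

/-- The constant sheaf `M` on the classical site, typed in `Cl.Ab T` (this keeps kernel checks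
fast). -/
abbrev clC (M : AddCommGrpCat.{u + 1}) : Cl.Ab T :=
  (constantSheaf (Cl.topology T) AddCommGrpCat.{u + 1}).obj M

/-- The constant sheaf `M` on the space, typed in `AbTop T`. -/
abbrev topC (M : AddCommGrpCat.{u + 1}) : AbTop T :=
  (constantSheaf (Opens.grothendieckTopology T) AddCommGrpCat.{u + 1}).obj M

/-- Ext out of a constant sheaf: from the classical site to the space. -/
def clExt (M : AddCommGrpCat.{u + 1}) (G : Cl.Ab T) (q : ℕ) :
    Ext.{u + 1} (C := Cl.Ab T) (clC T M) G q →+
      Ext.{u + 1} (C := AbTop T) (topC T M) ((resOpens T).obj G) q :=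
  CohtopA.ExtAdj.extOfHom (A := Cl.Ab T) (B := AbTop T) (Z := topC T M) (Z' := clC T M)
    (resOpens T) ((constIso T).hom.app M) G q

theorem clExt_comp (M : AddCommGrpCat.{u + 1}) {G G' : Cl.Ab T} {q m p : ℕ}
    (e : Ext.{u + 1} (C := Cl.Ab T) (clC T M) G q)
    (x : Ext.{u + 1} (C := Cl.Ab T) G G' m) (h : q + m = p) :
    clExt T M G' p (e.comp x h) = (clExt T M G q e).comp (x.mapExactFunctor (resOpens T)) h :=
  CohtopA.ExtAdj.extOfHom_comp _ _ _ _ _

theorem clExt_bijective (M : AddCommGrpCat.{u + 1}) (G : Cl.Ab T) (q : ℕ) :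
    Function.Bijective (clExt T M G q) := by
  refine CohtopA.ExtAdj.extOfHom_bijective (A := Cl.Ab T) (B := AbTop T) (Z := topC T M)
    (Z' := clC T M) (resOpens T) _ ?_ ?_ G q
  · intro Y
    constructor
    · intro a b h
      apply (resOpens T).map_injective
      exact (cancel_epi ((constIso T).hom.app M)).1 h
    · intro b
      obtain ⟨a, ha⟩ := (resOpens T).map_surjective ((constIso T).inv.app M ≫ b)
      refine ⟨a, ?_⟩
      dsimp only
      rw [ha, Iso.hom_inv_id_app_assoc]
  · intro I hI n
    have := resOpens_injective T I hI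
    exact Ext.subsingleton_of_injective _ _ _

/-- Naturality in the sheaf. -/
theorem clExt_map (M : AddCommGrpCat.{u + 1}) {G G' : Cl.Ab T} (φ : G ⟶ G') (q : ℕ)
    (e : Ext.{u + 1} (C := Cl.Ab T) (clC T M) G q) :
    clExt T M G' q (e.comp (Ext.mk₀ φ) (add_zero q)) =
      (clExt T M G q e).comp (Ext.mk₀ ((resOpens T).map φ)) (add_zero q) := by
  rw [clExt_comp, Ext.mapExactFunctor_mk₀]

/-- Compatibility with connecting homomorphisms. -/
theorem clExt_extClass (M : AddCommGrpCat.{u + 1}) {S : ShortComplex (Cl.Ab T)}
    (hS : S.ShortExact) {q p : ℕ} (e : Ext.{u + 1} (C := Cl.Ab T) (clC T M) S.X₃ q)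
    (h : q + 1 = p) :
    clExt T M S.X₁ p (e.comp hS.extClass h) =
      (clExt T M S.X₃ q e).comp (hS.map_of_exact (resOpens T)).extClass h := by
  have h1 := clExt_comp T M e hS.extClass h
  rw [Ext.mapExactFunctor_extClass] at h1
  exact h1

/-- `H^q(T_cl, G) → H^q(T, G|opens)`. -/
def clH (G : Cl.Ab T) (q : ℕ) : Cl.H G q →+ HTop ((resOpens T).obj G) q :=
  clExt T (AddCommGrpCat.of (ULift.{u + 1} ℤ)) G q

theorem clH_bijective (G : Cl.Ab T) (q : ℕ) : Function.Bijective (clH T G q) :=
  clExt_bijective T _ G q

/-- Naturality in the sheaf. -/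
theorem clH_map {G G' : Cl.Ab T} (φ : G ⟶ G') (q : ℕ) (e : Cl.H G q) :
    clH T G' q (Sheaf.H.map φ q e) = Sheaf.H.map ((resOpens T).map φ) q (clH T G q e) :=
  clExt_map T (AddCommGrpCat.of (ULift.{u + 1} ℤ)) φ q e

theorem subsingleton_clH_iff (G : Cl.Ab T) (q : ℕ) :
    Subsingleton (Cl.H G q) ↔ Subsingleton (HTop ((resOpens T).obj G) q) :=
  (Equiv.ofBijective _ (clH_bijective T G q)).subsingleton_congr

end Ext

end Groth.Agent.An.H884.ClH
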